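import Groth.Agent.QRegLib.SymGr

/-!
# Length of `A ⧸ m ^ (s+1)` detects regularity
-/

set_option autoImplicit false
universe u
open MvPolynomial IsLocalRing

namespace Groth.Agent.HilbertRegLib

variable {A : Type u} [CommRing A] [IsLocalRing A]
variable {r : ℕ} (f : Fin r → A)

/-- the monomial map in degree `n` -/
noncomputable def monMap (n : ℕ) : (Sym (Fin r) n → A) →ₗ[A] A :=
  ∑ s : Sym (Fin r) n, (LinearMap.proj s).smulRight (((s : Multiset (Fin r)).map f).prod)

theorem monMap_apply (n : ℕ) (c : Sym (Fin r) n → A) :
    monMap f n c = ∑ s : Sym (Fin r) n, c s * ((s : Multiset (Fin r)).map f).prod := by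
  simp [monMap]

theorem monMap_single (n : ℕ) [DecidableEq (Sym (Fin r) n)] (s : Sym (Fin r) n) (a : A) :
    monMap f n (Pi.single s a) = a * ((s : Multiset (Fin r)).map f).prod := by
  rw [monMap_apply, Finset.sum_eq_single s] <;> simp +contextual

theorem prod_map_mem (s : Multiset (Fin r)) :
    (s.map f).prod ∈ Ideal.span (Set.range f) ^ s.card := by
  induction s using Multiset.induction_on with
  | empty => simp
  | cons a s ih =>
    rw [Multiset.map_cons, Multiset.prod_cons, Multiset.card_cons, pow_succ']
    exact Ideal.mul_mem_mul (Ideal.subset_span ⟨a, rfl⟩) ih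

theorem prod_map_eq (s : Multiset (Fin r)) :
    (s.map f).prod = ∏ i ∈ (Multiset.toFinsupp s).support, f i ^ (Multiset.toFinsupp s) i := by
  classical
  rw [Finset.prod_multiset_map_count, Multiset.toFinsupp_support]
  exact Finset.prod_congr rfl fun i _ => by rw [Multiset.toFinsupp_apply]

theorem range_monMap (n : ℕ) :
    LinearMap.range (monMap f n) = Ideal.span (Set.range f) ^ n := by
  classical
  refine le_antisymm ?_ ?_
  · rintro _ ⟨c, rfl⟩
    rw [monMap_apply]
    refine Submodule.sum_mem _ fun s _ => Ideal.mul_mem_left _ _ ?_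
    have := prod_map_mem f (s : Multiset (Fin r))
    rwa [Sym.card_coe] at this
  · induction n with
    | zero =>
      intro x _
      refine ⟨Pi.single (default : Sym (Fin r) 0) x, ?_⟩
      rw [monMap_single, show ((default : Sym (Fin r) 0) : Multiset (Fin r)) = 0 from
        Multiset.card_eq_zero.1 (Sym.card_coe)]
      simp
    | succ n ih =>
      rw [pow_succ', Ideal.mul_le]
      intro a ha b hb
      obtain ⟨c, rfl⟩ := ih hb
      obtain ⟨t, rfl⟩ := (Submodule.mem_span_range_iff_exists_fun A).1 ha
      rw [monMap_apply, Finset.sum_mul_sum]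
      refine Submodule.sum_mem _ fun i _ => Submodule.sum_mem _ fun s _ => ?_
      refine ⟨Pi.single (i ::ₛ s) (t i * c s), ?_⟩
      rw [monMap_single, Sym.coe_cons, Multiset.map_cons, Multiset.prod_cons, smul_eq_mul]
      ring

/-- preimage of the next power -/
noncomputable def ker' (n : ℕ) : Submodule A (Sym (Fin r) n → A) :=
  Submodule.comap (monMap f n) (Ideal.span (Set.range f) ^ (n + 1) : Ideal A)

/-- reduction mod the maximal ideal -/
noncomputable def red (n : ℕ) : (Sym (Fin r) n → A) →ₗ[A] (Sym (Fin r) n → A ⧸ maximalIdeal A) :=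
  LinearMap.compLeft (Submodule.mkQ (maximalIdeal A)) _

theorem mem_ker_red (n : ℕ) (c : Sym (Fin r) n → A) :
    c ∈ LinearMap.ker (red n) ↔ ∀ s, c s ∈ maximalIdeal A := by
  simp [red, funext_iff, Ideal.Quotient.eq_zero_iff_mem, LinearMap.compLeft]

theorem ker_red_le (hf : Ideal.span (Set.range f) = maximalIdeal A) (n : ℕ) :
    LinearMap.ker (red n) ≤ ker' f n := by
  intro c hc
  rw [mem_ker_red] at hc
  rw [ker', Submodule.mem_comap, monMap_apply, hf, pow_succ']
  refine Submodule.sum_mem _ fun s _ => Ideal.mul_mem_mul (hc s) ?_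
  have := prod_map_mem f (s : Multiset (Fin r))
  rwa [Sym.card_coe, hf] at this

theorem length_ker_red (n : ℕ) :
    Module.length A ((Sym (Fin r) n → A) ⧸ LinearMap.ker (red (A := A) (r := r) n)) =
      (r.multichoose n : ℕ∞) := by
  classical
  have hs : Function.Surjective (red (A := A) (r := r) n) := fun y =>
    ⟨fun s => (Submodule.mkQ_surjective (maximalIdeal A) (y s)).choose,
      funext fun s => (Submodule.mkQ_surjective (maximalIdeal A) (y s)).choose_spec⟩
  rw [((red (A := A) (r := r) n).quotKerEquivOfSurjective hs).length_eq,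
    Module.length_pi_of_fintype]
  haveI : IsSimpleModule A (A ⧸ maximalIdeal A) :=
    isSimpleModule_iff_isCoatom.2 (Ideal.isMaximal_def.1 inferInstance)
  simp [Module.length_eq_one, Sym.card_sym_eq_multichoose]

theorem isQuasiRegular_iff (hf : Ideal.span (Set.range f) = maximalIdeal A) :
    CAlgX.IsQuasiRegular f ↔ ∀ n, ker' f n = LinearMap.ker (red n) := by
  classical
  constructor
  · intro hq n
    refine le_antisymm (fun c hc => ?_) (ker_red_le f hf n)
    rw [mem_ker_red]
    intro s
    let P : MvPolynomial (Fin r) A :=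
      ∑ s : Sym (Fin r) n, monomial (Multiset.toFinsupp (s : Multiset (Fin r))) (c s)
    have hP : P.IsHomogeneous n := IsHomogeneous.sum _ _ _ fun t _ =>
      isHomogeneous_monomial _ (by
        rw [Finsupp.degree_apply]
        exact (Multiset.toFinsupp_sum_eq _).trans (Sym.card_coe))
    have hev : eval f P = monMap f n c := by
      rw [monMap_apply, map_sum]
      refine Finset.sum_congr rfl fun t _ => ?_
      rw [eval_monomial, Finsupp.prod, prod_map_eq]
    have := hq n P hP (by rw [hev]; exact hc) (Multiset.toFinsupp (s : Multiset (Fin r)))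
    rw [hf] at this
    convert this
    rw [MvPolynomial.coeff_sum, Finset.sum_eq_single s]
    · simp
    · intro t _ hts
      rw [coeff_monomial, if_neg]
      exact fun h => hts (Subtype.ext (Multiset.toFinsupp.injective h))
    · simp
  · intro h n P hP hv d
    rw [hf] at hv ⊢
    by_cases hd : d ∈ P.support
    swap
    · rw [notMem_support_iff.1 hd]; exact zero_mem _
    have hdeg : ∀ e ∈ P.support, Multiset.card (Finsupp.toMultiset e) = n := fun e he => by
      rw [Finsupp.card_toMultiset]
      exact (hP.degree_eq_sum_deg_support he).symm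
    let c : Sym (Fin r) n → A := fun s => P.coeff (Multiset.toFinsupp (s : Multiset (Fin r)))
    have hev : eval f P = monMap f n c := by
      rw [monMap_apply, eval_eq]
      symm
      refine Finset.sum_bij_ne_zero (fun s _ _ => Multiset.toFinsupp (s : Multiset (Fin r)))
        ?_ ?_ ?_ ?_
      · intro s _ hs
        exact mem_support_iff.2 fun h => hs (by simp [c, h])
      · intro s _ _ t _ _ hst
        exact Subtype.ext (Multiset.toFinsupp.injective hst)
      · intro e he hne
        refine ⟨⟨Finsupp.toMultiset e, hdeg e he⟩, Finset.mem_univ _, ?_, by simp⟩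
        intro h0
        apply hne
        rw [← h0]
        change P.coeff e * _ = P.coeff (Multiset.toFinsupp (Finsupp.toMultiset e)) *
          ((Finsupp.toMultiset e).map f).prod
        rw [prod_map_eq, Finsupp.toMultiset_toFinsupp]
      · intro s _ _
        simp only [c]
        rw [prod_map_eq]
    have hc : c ∈ ker' f n := by
      rw [ker', Submodule.mem_comap, hf, ← hev]; exact hv
    rw [h n, mem_ker_red] at hc
    simpa [c] using hc ⟨Finsupp.toMultiset d, hdeg d hd⟩

/-- the graded piece `m ^ n / m ^ (n+1)` inside `A / m ^ (n+1)` -/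
theorem length_succ (n : ℕ) :
    Module.length A (A ⧸ Ideal.span (Set.range f) ^ (n + 1)) =
      Module.length A ((Sym (Fin r) n → A) ⧸ ker' f n) +
        Module.length A (A ⧸ Ideal.span (Set.range f) ^ n) := by
  set J := Ideal.span (Set.range f)
  let φ : ((Sym (Fin r) n → A) ⧸ ker' f n) →ₗ[A] A ⧸ J ^ (n + 1) :=
    Submodule.mapQ _ _ (monMap f n) le_rfl
  let ψ : (A ⧸ J ^ (n + 1)) →ₗ[A] A ⧸ J ^ n :=
    Submodule.factor (Ideal.pow_le_pow_right (Nat.le_succ n))
  refine Module.length_eq_add_of_exact φ ψ ?_ ?_ ?_
  · rw [← LinearMap.ker_eq_bot, Submodule.eq_bot_iff]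
    intro x hx
    obtain ⟨c, rfl⟩ := Submodule.Quotient.mk_surjective _ x
    rw [LinearMap.mem_ker, Submodule.mapQ_apply, Submodule.Quotient.mk_eq_zero] at hx
    exact (Submodule.Quotient.mk_eq_zero _).2 hx
  · exact Submodule.factor_surjective _
  · rw [LinearMap.exact_iff]
    ext x
    obtain ⟨a, rfl⟩ := Submodule.Quotient.mk_surjective _ x
    constructor
    · intro hx
      have ha : a ∈ J ^ n := (Submodule.Quotient.mk_eq_zero _).1 hx
      rw [← range_monMap f n] at ha
      obtain ⟨c, rfl⟩ := ha
      exact ⟨Submodule.Quotient.mk c, rfl⟩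
    · rintro ⟨y, hy⟩
      obtain ⟨c, rfl⟩ := Submodule.Quotient.mk_surjective _ y
      rw [← hy]
      refine (Submodule.Quotient.mk_eq_zero _).2 ?_
      rw [← range_monMap f n]
      exact ⟨c, rfl⟩

theorem isQuasiRegular_iff_length (hf : Ideal.span (Set.range f) = maximalIdeal A) :
    CAlgX.IsQuasiRegular f ↔ ∀ s : ℕ, Module.length A (A ⧸ maximalIdeal A ^ (s + 1)) =
      ((s + r).choose s : ℕ∞) := by
  rw [isQuasiRegular_iff f hf]
  have hst : ∀ s, Module.length A (A ⧸ maximalIdeal A ^ (s + 1)) =
      Module.length A ((Sym (Fin r) s → A) ⧸ ker' f s) +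
        Module.length A (A ⧸ maximalIdeal A ^ s) := fun s => by
    have := length_succ f s
    rwa [hf] at this
  have h0 : Module.length A (A ⧸ maximalIdeal A ^ 0) = 0 := by
    rw [Module.length_eq_zero_iff, Submodule.Quotient.subsingleton_iff]
    simp
  have hch : ∀ s, ((s + 1 + r).choose (s + 1)) = r.multichoose (s + 1) + (s + r).choose s := by
    intro s
    rw [Nat.multichoose_eq, show r + (s + 1) - 1 = s + r by omega,
      show s + 1 + r = (s + r) + 1 by omega, Nat.choose_succ_succ, add_comm]
  constructor
  · intro h s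
    induction s with
    | zero => rw [hst 0, h 0, h0, length_ker_red]; simp
    | succ s ih => rw [hst, ih, h, length_ker_red, hch]; norm_cast
  · intro h n
    have hg : Module.length A ((Sym (Fin r) n → A) ⧸ ker' f n) = (r.multichoose n : ℕ∞) := by
      cases n with
      | zero =>
        have := (hst 0).symm.trans (h 0)
        simpa [h0] using this
      | succ n =>
        have := (hst (n + 1)).symm.trans (h (n + 1))
        rw [h n, hch, Nat.cast_add] at this
        exact (WithTop.add_right_inj (ENat.coe_ne_top _)).1 this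
    let q := Submodule.factor (ker_red_le f hf n)
    have hex : Function.Exact (LinearMap.ker q).subtype q := LinearMap.exact_subtype_ker_map q
    have hlen := Module.length_eq_add_of_exact _ q Subtype.val_injective
      (Submodule.factor_surjective _) hex
    rw [hg, length_ker_red] at hlen
    have hz : Module.length A (LinearMap.ker q) = 0 := by
      have : (0 : ℕ∞) + (r.multichoose n : ℕ∞) =
          Module.length A (LinearMap.ker q) + (r.multichoose n : ℕ∞) := by rw [zero_add]; exact hlen
      exact ((WithTop.add_right_inj (ENat.coe_ne_top _)).1 this).symm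
    refine le_antisymm (fun c hc => ?_) (ker_red_le f hf n)
    have hss : Subsingleton (LinearMap.ker q) := Module.length_eq_zero_iff.1 hz
    have hm : Submodule.Quotient.mk c ∈ LinearMap.ker q :=
      (Submodule.Quotient.mk_eq_zero _).2 hc
    have := congrArg Subtype.val (hss.elim ⟨_, hm⟩ 0)
    exact (Submodule.Quotient.mk_eq_zero _).1 this

theorem isRegularLocalRing_iff_length (A : Type u) [CommRing A] [IsLocalRing A]
    [IsNoetherianRing A] :
    IsRegularLocalRing A ↔ ∀ s : ℕ, Module.length A (A ⧸ maximalIdeal A ^ (s + 1)) =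
      ((s + Module.finrank (ResidueField A) (CotangentSpace A)).choose s : ℕ∞) := by
  obtain ⟨x, hx⟩ := RegLocal.exists_generators (R := A)
  rw [← spanFinrank_maximalIdeal_eq_finrank_cotangentSpace, ← isQuasiRegular_iff_length x hx]
  constructor
  · intro h
    obtain ⟨e, he⟩ := RegLocal.exists_nat_ringKrullDim (R := A)
    have hr := (isRegularLocalRing_iff A).1 h
    rw [he] at hr
    have hr' : (maximalIdeal A).spanFinrank = e := by exact_mod_cast hr
    exact QRegLib.isQuasiRegular_of_isWeaklyRegular x
      (RegLocal.isRegular_of_generators A (d := (maximalIdeal A).spanFinrank)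
        (by rw [he, hr']) x hx).toIsWeaklyRegular
  · intro hq
    have hw := QRegLib.isWeaklyRegular_of_isQuasiRegular x
      (by rw [hx]; exact maximalIdeal_le_jacobson ⊥) hq
    have hof : Ideal.ofList (List.ofFn x) = maximalIdeal A := Eq.trans (by
      rw [Ideal.ofList]; congr 1; ext z; simp [List.mem_ofFn]) hx
    have hr : RingTheory.Sequence.IsRegular A (List.ofFn x) := ⟨hw, by
      rw [hof, smul_eq_mul, Ideal.mul_top]; exact (maximalIdeal.isMaximal A).ne_top.symm⟩
    have hd := ringKrullDim_add_length_eq_ringKrullDim_of_isRegular (List.ofFn x) hr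
    refine IsRegularLocalRing.of_spanFinrank_maximalIdeal_le A ?_
    rw [← hd, List.length_ofFn]
    haveI : Nontrivial (A ⧸ Ideal.ofList (List.ofFn x)) := Ideal.Quotient.nontrivial_iff.2
      (by rw [hof]; exact (maximalIdeal.isMaximal A).ne_top)
    exact le_add_of_nonneg_left ringKrullDim_nonneg_of_nontrivial

end Groth.Agent.HilbertRegLib
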